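import Groth.Agent.ProSec71.Setup
import Mathlib.CategoryTheory.Presentable.Directed

/-!
# Sections of a pulled back sheaf over a limit of pro-etale objects
-/

universe u

open CategoryTheory CategoryTheory.Limits AlgebraicGeometry Opposite MorphismProperty

namespace Groth.Agent.ProSec71

open SitePullUnit ProEtLib EtLim64 EtLim64.Tower

set_option backward.isDefEq.respectTransparency.types false
set_option linter.unusedSectionVars false

variable {X : Scheme.{u}} [ProEtS.EpsCont X] [RepresentablyFlat (ProEtS.eps X)] (F : EtCoh.Ab X)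

local notation "G" => ProEtS.eps X
local notation "K" => Scheme.ProEt.topology X

theorem map_map {d d' d'' : X.ProEt} (f : d' ⟶ d) (g : d'' ⟶ d') (z : (pulled G K F).obj (op d)) :
    (pulled G K F).map g.op ((pulled G K F).map f.op z) = (pulled G K F).map (g ≫ f).op z := by
  rw [← ConcreteCategory.comp_apply, ← Functor.map_comp, ← op_comp]

variable {ι : Type u} [Preorder ι] [IsDirected ι (· ≤ ·)] [Nonempty ι] {P : PTower X ι}

theorem map_pi_mapP {A B : Obj P.T} (f : A ⟶ B) (z : (pulled G K F).obj (op (toP B))) :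
    (pulled G K F).map (piP A).op ((pulled G K F).map (mapP f).op z) =
      (pulled G K F).map (limP f).op ((pulled G K F).map (piP B).op z) := by
  rw [map_map, map_map, limP_pi]

set_option maxHeartbeats 1000000 in
/-- gluing a covering family of etale pieces at one stage -/
theorem exists_stage_of_family (s : (pulled G K F).obj (op P.c.pt)) {N : Type u} [Finite N] (k : ι)
    (Ve : N → (P.T.obj k).Etale) (hV : ∀ a, IsQcqs ((P.T.incl k).obj (Ve a)))
    (tV : ∀ a, (pulled G K F).obj (op (toP ((P.T.incl k).obj (Ve a)))))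
    (htV : ∀ a, (pulled G K F).map (rhoP ((P.T.incl k).obj (Ve a))).op s =
      (pulled G K F).map (piP ((P.T.incl k).obj (Ve a))).op (tV a))
    (hVstr : ∀ x : (P.D.obj (op k)).left, ∃ a, x ∈ Set.range (strP ((P.T.incl k).obj (Ve a))).left.base) :
    ∃ (m : ι) (u : (pulled G K F).obj (op (P.D.obj (op m)))),
      (pulled G K F).map (P.c.π.app (op m)).op u = s := by
  classical
  cases nonempty_fintype N
  let V : N → Obj P.T := fun a => (P.T.incl k).obj (Ve a)
  let W : N × N → Obj P.T := fun p => ⟨k, MorphismProperty.Over.mk _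
    (pullback.fst (V p.1).str (V p.2).str ≫ (V p.1).str)
    (MorphismProperty.comp_mem (@Etale : MorphismProperty Scheme.{u}) _ _
      (MorphismProperty.pullback_fst (P := @Etale) _ _ (V p.2).obj.prop) (V p.1).obj.prop)⟩
  let w₁ : ∀ p, W p ⟶ V p.1 := fun p =>
    { map := pullback.fst (V p.1).str (V p.2).str
      hle := le_rfl
      w := (Category.comp_id _).symm.trans (congrArg ((W p).str ≫ ·) (P.T.tr_refl k).symm) }
  let w₂ : ∀ p, W p ⟶ V p.2 := fun p =>
    { map := pullback.snd (V p.1).str (V p.2).str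
      hle := le_rfl
      w := pullback.condition.symm.trans ((Category.comp_id _).symm.trans (congrArg ((W p).str ≫ ·) (P.T.tr_refl k).symm)) }
  have hW : ∀ p, IsQcqs (W p) := fun p => by
    have := (hV p.1).1
    have := (hV p.1).2
    have := (hV p.2).1
    have := (hV p.2).2
    have : CompactSpace ↥(P.T.obj (V p.2).stage) := P.hqc (op k)
    have : QuasiSeparatedSpace ↥(P.T.obj (V p.2).stage) := P.hqs (op k)
    have h1 : QuasiCompact (V p.2).str := quasiCompact_of_compactSpace _
    have h2 : QuasiSeparated (V p.2).str := QuasiSeparated.of_quasiSeparatedSpace _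
    have h3 : QuasiCompact (pullback.fst (V p.1).str (V p.2).str) :=
      MorphismProperty.pullback_fst (P := @QuasiCompact) _ _ h1
    have h4 : QuasiSeparated (pullback.fst (V p.1).str (V p.2).str) :=
      MorphismProperty.pullback_fst (P := @QuasiSeparated) _ _ h2
    exact ⟨@QuasiCompact.compactSpace_of_compactSpace _ _ (pullback.fst (V p.1).str (V p.2).str) h3 (hV p.1).1,
      @quasiSeparatedSpace_of_quasiSeparated _ _ (pullback.fst (V p.1).str (V p.2).str) (hV p.1).2 h4⟩
  have hW0 : ∀ p, (pulled G K F).map (piP (W p)).op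
      ((pulled G K F).map (mapP (w₁ p)).op (tV p.1) - (pulled G K F).map (mapP (w₂ p)).op (tV p.2)) = 0 := fun p => by
    rw [map_sub, map_pi_mapP F (w₁ p), map_pi_mapP F (w₂ p), ← htV, ← htV, map_map, map_map, limP_rho, limP_rho, sub_self]
  choose l hl hl0 using fun p => exists_zero F (W p) (hW p) _ (hW0 p)
  obtain ⟨m, hm⟩ := Finset.exists_le (insert k (Finset.univ.image l))
  have hkm : k ≤ m := hm _ (Finset.mem_insert_self _ _)
  have hlm : ∀ p, l p ≤ m := fun p => hm _ (Finset.mem_insert_of_mem (Finset.mem_image_of_mem l (Finset.mem_univ p)))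
  let V' : N → Obj P.T := fun a => P.T.pullTo (V a) hkm
  let tV' : ∀ a, (pulled G K F).obj (op (toP (V' a))) := fun a =>
    (pulled G K F).map (mapP (P.T.proj (V a) hkm)).op (tV a)
  -- gluing
  have hsh : Presieve.IsSheafFor (pulled G K F ⋙ CategoryTheory.forget AddCommGrpCat.{u + 1})
      (Presieve.ofArrows (X := P.D.obj (op m)) (fun a => toP (V' a)) fun a => strP (V' a)) := by
    rw [Presieve.isSheafFor_iff_generate]
    refine (isSheaf_iff_isSheaf_of_type _ _).1
      ((sheafCompose K (CategoryTheory.forget AddCommGrpCat.{u + 1})).obj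
        ((presheafToSheaf K AddCommGrpCat.{u + 1}).obj (lanP G F))).property _ ?_
    refine mem_topology_of_etale _ _ (fun a => (V' a).obj.prop) (fun x => ?_)
      fun a => Sieve.le_generate _ _ _ ⟨a⟩
    obtain ⟨a, z, hz⟩ := hVstr ((P.T.tr hkm).base x)
    obtain ⟨w, -, hw⟩ := Scheme.Pullback.exists_preimage_pullback (f := (V a).str) (g := P.T.tr hkm) z x hz
    exact ⟨a, w, hw⟩
  obtain ⟨u, hu, -⟩ := (Presieve.isSheafFor_arrows_iff _ _).1 hsh tV' fun a b Z g g' hgg => by
    have hgg' : g.left ≫ (V' a).str = g'.left ≫ (V' b).str := congrArg (fun q => q.left) hgg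
    let q : Z ⟶ toP (W (a, b)) := MorphismProperty.Over.homMk
      (pullback.lift (g.left ≫ (P.T.proj (V a) hkm).map) (g'.left ≫ (P.T.proj (V b) hkm).map) (by
        refine (Category.assoc _ _ _).trans (Eq.trans ?_ (Category.assoc _ _ _).symm)
        refine (congrArg (g.left ≫ ·) (P.T.proj (V a) hkm).w).trans (Eq.trans ?_
          (congrArg (g'.left ≫ ·) (P.T.proj (V b) hkm).w).symm)
        exact (Category.assoc _ _ _).symm.trans ((congrArg (· ≫ P.T.tr hkm) hgg').trans (Category.assoc _ _ _))))
      (by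
        refine (congrArg (pullback.lift _ _ _ ≫ ·) (Category.assoc _ _ _)).trans ?_
        refine (pullback.lift_fst_assoc _ _ _ _).trans ?_
        exact MorphismProperty.Over.w (g ≫ mapP (P.T.proj (V a) hkm)))
    let q' : Z ⟶ toP (P.T.pullTo (W (a, b)) (hl (a, b))) := MorphismProperty.Over.homMk
      (pullback.lift q.left (g.left ≫ (V' a).str ≫ P.T.tr (hlm (a, b))) (by
        have hq1 : q.left ≫ pullback.fst (V a).str (V b).str = g.left ≫ (P.T.proj (V a) hkm).map :=
          pullback.lift_fst _ _ _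
        change q.left ≫ pullback.fst (V a).str (V b).str ≫ (V a).str = _
        refine (Category.assoc _ _ _).symm.trans ((congrArg (· ≫ (V a).str) hq1).trans ?_)
        refine (Category.assoc _ _ _).trans ((congrArg (g.left ≫ ·) (P.T.proj (V a) hkm).w).trans ?_)
        refine Eq.trans ?_ (Category.assoc _ _ _).symm
        refine congrArg (g.left ≫ ·) (Eq.trans ?_ (Category.assoc _ _ _).symm)
        exact congrArg ((V' a).str ≫ ·) (P.T.tr_tr (hl (a, b)) (hlm (a, b))).symm))
      (by
        refine (pullback.lift_snd_assoc _ _ _ _).trans ?_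
        simp only [Category.assoc]
        refine (congrArg (fun e => g.left ≫ (V' a).str ≫ e)
          (MorphismProperty.Over.w (P.D.map (homOfLE (hlm (a, b))).op))).trans ?_
        exact MorphismProperty.Over.w g)
    have hq' : q' ≫ mapP (P.T.proj (W (a, b)) (hl (a, b))) = q :=
      MorphismProperty.Over.Hom.ext (pullback.lift_fst _ _ _)
    have h0 := congrArg ((pulled G K F).map q'.op) (hl0 (a, b))
    rw [map_zero, map_map, hq', map_sub, map_map, map_map, sub_eq_zero] at h0
    have e1 : q ≫ mapP (w₁ (a, b)) = g ≫ mapP (P.T.proj (V a) hkm) :=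
      MorphismProperty.Over.Hom.ext (pullback.lift_fst _ _ _)
    have e2 : q ≫ mapP (w₂ (a, b)) = g' ≫ mapP (P.T.proj (V b) hkm) :=
      MorphismProperty.Over.Hom.ext (pullback.lift_snd _ _ _)
    rw [e1, e2] at h0
    exact ((map_map F _ g _).trans h0).trans (map_map F _ g' _).symm
  refine ⟨m, u, ?_⟩
  -- compare on the limit
  refine ((presheafToSheaf K AddCommGrpCat.{u + 1}).obj (lanP G F)).2.isSeparated P.c.pt
    (Sieve.generate (Presieve.ofArrows (fun a => toPLim (V' a)) fun a => rhoP (V' a))) ?_ _ _ ?_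
  · refine mem_topology_of_etale _ _
      (fun a => MorphismProperty.pullback_snd (P := @Etale) _ _ (V' a).obj.prop) (fun x => ?_)
      fun a => Sieve.le_generate _ _ _ ⟨a⟩
    obtain ⟨a, z, hz⟩ := hVstr ((P.c.π.app (op k)).left.base x)
    obtain ⟨z₁, -, hz₁⟩ := Scheme.Pullback.exists_preimage_pullback (f := (V a).str) (g := P.T.pr k) z x hz
    have e : (P.T.toLimProjInv (V a) hkm).left ≫ pullback.snd (V' a).str (P.T.pr m) = pullback.snd (V a).str (P.T.pr k) :=
      MorphismProperty.Over.w (P.T.toLimProjInv (V a) hkm)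
    exact ⟨a, (P.T.toLimProjInv (V a) hkm).left.base z₁,
      (congrArg (fun q : (P.T.toLim.obj (V a)).left ⟶ P.T.lim => q.base z₁) e).trans hz₁⟩
  · rintro Y f ⟨Z, g, _, ⟨a⟩, rfl⟩
    rw [← map_map F (rhoP (V' a)) g, ← map_map F (rhoP (V' a)) g s]
    refine congrArg _ ?_
    rw [map_map, show rhoP (V' a) ≫ P.c.π.app (op m) = piP (V' a) ≫ strP (V' a) from (piP_str (V' a)).symm]
    refine (map_map F (strP (V' a)) (piP (V' a)) u).symm.trans ((congrArg _ (hu a)).trans ?_)
    rw [map_pi_mapP, ← htV, map_map, limP_rho]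

/-- surjectivity at the colimit, for towers -/
theorem exists_stage (s : (pulled G K F).obj (op P.c.pt)) :
    ∃ (k : ι) (u : (pulled G K F).obj (op (P.D.obj (op k)))),
      (pulled G K F).map (P.c.π.app (op k)).op u = s := by
  classical
  choose A hA t ht hy using fun y => exists_local (P := P) F s y
  have : ∀ y, Etale (rhoP (A y)).left := fun y => MorphismProperty.pullback_snd (P := @Etale) _ _ (A y).obj.prop
  have hlim : CompactSpace ↥P.c.pt.left := by
    obtain ⟨i⟩ := ‹Nonempty ι›
    have : IsAffineHom (P.T.pr i) := Tower.isAffineHom_pr P.T i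
    have : CompactSpace ↥(P.T.obj i) := P.hqc (op i)
    have : QuasiSeparatedSpace ↥(P.T.obj i) := P.hqs (op i)
    exact (qcqs_of_affineHom (P.T.pr i)).1
  obtain ⟨σ, hσ⟩ := isCompact_univ.elim_finite_subcover (fun y => Set.range (rhoP (A y)).left.base)
    (fun y => (rhoP (A y)).left.isOpenMap.isOpen_range) fun y _ => Set.mem_iUnion.2 ⟨y, hy y⟩
  obtain ⟨i₀⟩ := ‹Nonempty ι›
  obtain ⟨k₀, hk₀⟩ := Finset.exists_le (insert i₀ (σ.image fun y => (A y).stage))
  have hle : ∀ a : σ, (A a.1).stage ≤ k₀ := fun a =>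
    hk₀ _ (Finset.mem_insert_of_mem (Finset.mem_image_of_mem (fun y => (A y).stage) a.2))
  let B : σ → Obj P.T := fun a => P.T.pullTo (A a.1) (hle a)
  let tB : ∀ a, (pulled G K F).obj (op (toP (B a))) := fun a =>
    (pulled G K F).map (mapP (P.T.proj (A a.1) (hle a))).op (t a.1)
  have htB : ∀ a, (pulled G K F).map (rhoP (B a)).op s = (pulled G K F).map (piP (B a)).op (tB a) := fun a => by
    rw [map_pi_mapP, ← ht, map_map, limP_rho]
  -- the stages where the family covers
  let top₀ : Obj P.T := (P.T.incl k₀).obj (EtCoh.top (P.T.obj k₀))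
  have htop₀ : IsQcqs top₀ := ⟨P.hqc _, P.hqs _⟩
  let fB : ∀ a, B a ⟶ top₀ := fun a =>
    { map := (B a).str
      hle := le_rfl
      w := (Category.comp_id _).trans ((Category.comp_id _).symm.trans
        (congrArg ((B a).str ≫ ·) (P.T.tr_refl k₀).symm)) }
  obtain ⟨k, hk, hk', hsurj⟩ := P.T.exists_cover htop₀ B fB fun x => by
    obtain ⟨a, ha, z, hz⟩ := Set.mem_iUnion₂.1 (hσ (Set.mem_univ ((P.T.toLim.obj top₀).hom.base x)))
    refine ⟨⟨a, ha⟩, (P.T.toLimProjInv (A a) (hle ⟨a, ha⟩)).left.base z, ?_⟩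
    have : IsIso (P.T.toLim.obj top₀).hom :=
      inferInstanceAs (IsIso (pullback.snd (𝟙 (P.T.obj k₀)) (P.T.pr k₀)))
    apply (P.T.toLim.obj top₀).hom.isOpenEmbedding.injective
    refine Eq.trans ?_ hz
    refine (congrArg (fun q : (P.T.toLim.obj (B ⟨a, ha⟩)).left ⟶ P.T.lim => q.base _)
      (P.T.toLim_map_snd (fB ⟨a, ha⟩))).trans ?_
    exact congrArg (fun q : (P.T.toLim.obj (A a)).left ⟶ P.T.lim => q.base z)
      (MorphismProperty.Over.w (P.T.toLimProjInv (A a) (hle ⟨a, ha⟩)))
  -- agreement on overlaps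
  let V : σ → Obj P.T := fun a => P.T.pullTo (B a) (hk' a)
  have hV : ∀ a, IsQcqs (V a) := fun a => isQcqs_pullTo (isQcqs_pullTo (hA a.1) (hle a)) (hk' a)
  let tV : ∀ a, (pulled G K F).obj (op (toP (V a))) := fun a =>
    (pulled G K F).map (mapP (P.T.proj (B a) (hk' a))).op (tB a)
  have htV : ∀ a, (pulled G K F).map (rhoP (V a)).op s = (pulled G K F).map (piP (V a)).op (tV a) := fun a => by
    rw [map_pi_mapP, ← htB, map_map, limP_rho]
  have hVstr : ∀ x : (P.D.obj (op k)).left, ∃ a, x ∈ Set.range (strP (V a)).left.base := fun x => by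
    obtain ⟨w, -, hw⟩ := Scheme.Pullback.exists_preimage_pullback (f := top₀.str) (g := P.T.tr hk)
      ((P.T.tr hk).base x) x rfl
    obtain ⟨a, z, hz⟩ := hsurj w
    refine ⟨a, z, ?_⟩
    refine Eq.trans ?_ hw
    rw [← hz]
    exact (congrArg (fun q : (V a).sch ⟶ P.T.obj k => q.base z) (MorphismProperty.Over.w (P.T.mapTo (fB a) (hk' a)))).symm
  exact exists_stage_of_family F s k (fun a => (V a).obj) hV tV htV hVstr

end Groth.Agent.ProSec71
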