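import Groth.Agent.ProSec71.Vanish
import Groth.Agent.EtLim64.Basis
import Groth.Agent.EtLim64.Descent

/-!
# Etale objects over the stages of a tower of pro-etale objects, and descent of vanishing
-/

universe u

open CategoryTheory CategoryTheory.Limits AlgebraicGeometry Opposite MorphismProperty

namespace Groth.Agent.ProSec71

open SitePullUnit ProEtLib EtLim64 EtLim64.Tower

set_option backward.isDefEq.respectTransparency.types false
set_option linter.unusedSectionVars false

variable {X : Scheme.{u}} {ι : Type u} [Preorder ι] [IsDirected ι (· ≤ ·)] [Nonempty ι]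

/-- a tower inside the small pro-etale site -/
structure PTower (X : Scheme.{u}) (ι : Type u) [Preorder ι] [IsDirected ι (· ≤ ·)] [Nonempty ι] : Type (u + 1) where
  D : ιᵒᵖ ⥤ X.ProEt
  c : Cone D
  hc : IsLimit ((Scheme.ProEt.forget X ⋙ CategoryTheory.Over.forget X).mapCone c)
  haff : ∀ ⦃a b : ιᵒᵖ⦄ (h : a ⟶ b), IsAffineHom (D.map h).left
  hqc : ∀ a, CompactSpace ↥(D.obj a).left
  hqs : ∀ a, QuasiSeparatedSpace ↥(D.obj a).left

variable (P : PTower X ι)

/-- the underlying tower of schemes -/
noncomputable abbrev PTower.T : Tower ι :=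
  ⟨P.D ⋙ Scheme.ProEt.forget X ⋙ CategoryTheory.Over.forget X,
    (Scheme.ProEt.forget X ⋙ CategoryTheory.Over.forget X).mapCone P.c, P.hc, P.haff, P.hqc, P.hqs⟩

variable {P}

/-- an etale scheme over a stage as an object of the site -/
noncomputable def toP (A : Obj P.T) : X.ProEt :=
  MorphismProperty.Over.mk _ (A.str ≫ (P.D.obj (op A.stage)).hom)
    (MorphismProperty.comp_mem (@WeaklyEtale : MorphismProperty Scheme.{u}) _ _
      (haveI : Etale A.str := A.obj.prop; inferInstance) (P.D.obj (op A.stage)).prop)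

/-- structure map -/
noncomputable def strP (A : Obj P.T) : toP A ⟶ P.D.obj (op A.stage) := MorphismProperty.Over.homMk A.str

/-- functoriality -/
noncomputable def mapP {A B : Obj P.T} (f : A ⟶ B) : toP A ⟶ toP B :=
  MorphismProperty.Over.homMk f.map (by
    change f.map ≫ B.str ≫ _ = A.str ≫ _
    rw [← Category.assoc, f.w, Category.assoc]
    exact congrArg (A.str ≫ ·) (MorphismProperty.Over.w (P.D.map (homOfLE f.hle).op)))

theorem mapP_comp {A B C : Obj P.T} (f : A ⟶ B) (g : B ⟶ C) : mapP (f ≫ g) = mapP f ≫ mapP g :=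
  MorphismProperty.Over.Hom.ext rfl

/-- base change to the limit as an object of the site -/
noncomputable def toPLim (A : Obj P.T) : X.ProEt :=
  MorphismProperty.Over.mk _ (pullback.snd A.str (P.T.pr A.stage) ≫ P.c.pt.hom)
    (MorphismProperty.comp_mem (@WeaklyEtale : MorphismProperty Scheme.{u}) _ _
      (haveI : Etale (pullback.snd A.str (P.T.pr A.stage)) :=
          MorphismProperty.pullback_snd (P := @Etale) _ _ A.obj.prop;
        inferInstance) P.c.pt.prop)

/-- to the stage -/
noncomputable def piP (A : Obj P.T) : toPLim A ⟶ toP A :=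
  MorphismProperty.Over.homMk (pullback.fst A.str (P.T.pr A.stage)) (by
    change pullback.fst A.str (P.T.pr A.stage) ≫ A.str ≫ _ = pullback.snd A.str (P.T.pr A.stage) ≫ _
    rw [← Category.assoc, pullback.condition, Category.assoc]
    exact congrArg (_ ≫ ·) (MorphismProperty.Over.w (P.c.π.app (op A.stage))))

/-- to the limit -/
noncomputable def rhoP (A : Obj P.T) : toPLim A ⟶ P.c.pt :=
  MorphismProperty.Over.homMk (pullback.snd A.str (P.T.pr A.stage))

/-- functoriality over the limit -/
noncomputable def limP {A B : Obj P.T} (f : A ⟶ B) : toPLim A ⟶ toPLim B :=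
  MorphismProperty.Over.homMk (P.T.toLim.map f).left (by
    change (P.T.toLim.map f).left ≫ pullback.snd B.str (P.T.pr B.stage) ≫ _ = pullback.snd A.str (P.T.pr A.stage) ≫ _
    exact (Category.assoc _ _ _).symm.trans (congrArg (· ≫ P.c.pt.hom) (P.T.toLim_map_snd f)))

theorem limP_pi {A B : Obj P.T} (f : A ⟶ B) : limP f ≫ piP B = piP A ≫ mapP f :=
  MorphismProperty.Over.Hom.ext (P.T.toLim_map_fst f)

theorem limP_rho {A B : Obj P.T} (f : A ⟶ B) : limP f ≫ rhoP B = rhoP A :=
  MorphismProperty.Over.Hom.ext (P.T.toLim_map_snd f)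

theorem piP_str (A : Obj P.T) : piP A ≫ strP A = rhoP A ≫ P.c.π.app (op A.stage) :=
  MorphismProperty.Over.Hom.ext pullback.condition

variable [ProEtS.EpsCont X] [RepresentablyFlat (ProEtS.eps X)] (F : EtCoh.Ab X)

local notation "G" => ProEtS.eps X
local notation "K" => Scheme.ProEt.topology X

/-- vanishing descends to a stage -/
theorem exists_zero (A : Obj P.T) (hA : IsQcqs A) (t : (pulled G K F).obj (op (toP A)))
    (h : (pulled G K F).map (piP A).op t = 0) :
    ∃ (k : ι) (hk : A.stage ≤ k), (pulled G K F).map (mapP (P.T.proj A hk)).op t = 0 := by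
  have := fun l => (qcqs_diag hA l).1
  let O : A.sch.Opens := ⟨zeroSet F t, isOpen_zeroSet F t⟩
  let i : CategoryTheory.Over (op A.stage) := CategoryTheory.Over.mk (𝟙 _)
  have hO : Set.range (pullback.fst A.str (P.T.pr A.stage)).base ⊆ (O : Set A.sch) :=
    (map_eq_zero_iff F t (piP A)).1 h
  obtain ⟨l, hl, htop⟩ := exists_map_eq_top (diag A) (diagCone A) (isLimitDiagCone A) (i := i)
    (pullback.fst A.str (P.T.Xs.map i.hom) ⁻¹ᵁ O) (by
      refine top_unique fun z _ => ?_
      suffices h : ((diagCone A).π.app i ≫ pullback.fst A.str (P.T.Xs.map i.hom)).base z ∈ O from h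
      have e : (diagCone A).π.app i ≫ pullback.fst A.str (P.T.Xs.map i.hom) = pullback.fst A.str (P.T.pr A.stage) :=
        pullback.lift_fst _ _ _
      rw [e]
      exact hO ⟨z, rfl⟩)
  have hkl : A.stage ≤ unop l.left := leOfHom l.hom.unop
  refine ⟨unop l.left, hkl, (map_eq_zero_iff F t _).2 ?_⟩
  rintro _ ⟨x, rfl⟩
  have hh := htop.ge (Set.mem_univ x)
  have e : (diag A).map hl ≫ pullback.fst A.str (P.T.Xs.map i.hom) = pullback.fst A.str (P.T.tr hkl) :=
    pullback.lift_fst _ _ _
  exact (congrArg (fun m => m.base x) e) ▸ hh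

/-- near every point of the limit a section comes from an etale scheme over some stage -/
theorem exists_local (s : (pulled G K F).obj (op P.c.pt)) (y : P.c.pt.left) :
    ∃ (A : Obj P.T) (_ : IsQcqs A) (t : (pulled G K F).obj (op (toP A))),
      (pulled G K F).map (rhoP A).op s = (pulled G K F).map (piP A).op t ∧
        y ∈ Set.range (rhoP A).left.base := by
  obtain ⟨R, hR, hR'⟩ := exists_cover_sGerm G K F s
  obtain ⟨V, f, v, hf, hv⟩ := exists_hit hR y
  obtain ⟨U, b, x, hx⟩ := hR' f hf
  have : Etale U.hom := U.prop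
  have : Etale (pullback.snd U.hom P.c.pt.hom) := MorphismProperty.pullback_snd _ _ ‹_›
  have : WeaklyEtale P.c.pt.hom := P.c.pt.prop
  let E : X.ProEt := Scheme.ProEt.mk (pullback.snd U.hom P.c.pt.hom ≫ P.c.pt.hom)
  let p₁ : E ⟶ (ProEtS.eps X).obj U := MorphismProperty.Over.homMk (pullback.fst U.hom P.c.pt.hom) pullback.condition
  let p₂ : E ⟶ P.c.pt := MorphismProperty.Over.homMk (pullback.snd U.hom P.c.pt.hom)
  let d := (pulled G K F).map p₂.op s - sGerm G K F p₁ x
  let O : E.left.Opens := ⟨zeroSet F d, isOpen_zeroSet F d⟩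
  let lft : V ⟶ E := MorphismProperty.Over.homMk
    (pullback.lift b.left f.left ((MorphismProperty.Over.w b).trans (MorphismProperty.Over.w f).symm)) (by
      change pullback.lift _ _ _ ≫ pullback.snd U.hom P.c.pt.hom ≫ P.c.pt.hom = _
      rw [pullback.lift_snd_assoc]
      exact MorphismProperty.Over.w f)
  have he1 : lft ≫ p₁ = b := MorphismProperty.Over.Hom.ext (pullback.lift_fst _ _ _)
  have he2 : lft ≫ p₂ = f := MorphismProperty.Over.Hom.ext (pullback.lift_snd _ _ _)
  have hz : lft.left.base v ∈ O := (map_eq_zero_iff F d lft).1 (by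
    rw [map_sub, map_sGerm, ← ConcreteCategory.comp_apply, ← Functor.map_comp, ← op_comp, he1, he2, hx]
    exact sub_self _) ⟨v, rfl⟩
  let EO : P.T.lim.Etale := MorphismProperty.Over.mk _ (O.ι ≫ pullback.snd U.hom P.c.pt.hom : O.toScheme ⟶ P.T.lim)
    (MorphismProperty.comp_mem (@Etale : MorphismProperty Scheme.{u}) _ _ (inferInstance : Etale O.ι) ‹_›)
  let e₀ : O.toScheme := ⟨_, hz⟩
  obtain ⟨A, g, y', -, hA, hy'⟩ := P.T.exists_basis EO e₀
  have := fun l => (qcqs_diag hA l).1
  have := fun l => (qcqs_diag hA l).2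
  have hgw : g.left ≫ O.ι ≫ pullback.snd U.hom P.c.pt.hom = pullback.snd A.str (P.T.pr A.stage) :=
    MorphismProperty.Over.w g
  let φ : (diagCone A).pt ⟶ U.left := g.left ≫ O.ι ≫ pullback.fst U.hom P.c.pt.hom
  let tt : diag A ⟶ (Functor.const _).obj X :=
    { app := fun l => pullback.snd A.str (P.T.Xs.map l.hom) ≫ (P.D.obj l.left).hom
      naturality := fun l m g => by
        refine (pullback.lift_snd_assoc _ _ _ _).trans ?_
        refine Eq.trans ?_ (Category.comp_id _).symm
        exact (Category.assoc _ _ _).trans (congrArg (_ ≫ ·) (MorphismProperty.Over.w (P.D.map g.left))) }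
  have : LocallyOfFinitePresentation U.hom := inferInstance
  obtain ⟨l, ψ, hψ, hψ'⟩ := Scheme.exists_π_app_comp_eq_of_locallyOfFinitePresentation (diag A) tt U.hom
    (diagCone A) (isLimitDiagCone A) φ (by
      ext l
      change ((diagCone A).π.app l) ≫ pullback.snd A.str (P.T.Xs.map l.hom) ≫ (P.D.obj l.left).hom =
        φ ≫ U.hom
      have hc : (P.c.π.app l.left).left ≫ (P.D.obj l.left).hom = P.c.pt.hom :=
        MorphismProperty.Over.w (P.c.π.app l.left)
      refine (pullback.lift_snd_assoc _ _ _ _).trans ?_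
      refine ((Category.assoc _ _ _).trans (congrArg (pullback.snd A.str (P.T.pr A.stage) ≫ ·) hc)).trans ?_
      refine (congrArg (· ≫ P.c.pt.hom) hgw).symm.trans ?_
      refine (Category.assoc _ _ _).trans (Eq.trans ?_ (Category.assoc _ _ _).symm)
      refine congrArg (g.left ≫ ·) ((Category.assoc _ _ _).trans (Eq.trans ?_ (Category.assoc _ _ _).symm))
      exact congrArg (O.ι ≫ ·) pullback.condition.symm)
  have hkl : A.stage ≤ unop l.left := leOfHom l.hom.unop
  let B : Obj P.T := P.T.pullTo A hkl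
  let bB : toP B ⟶ (ProEtS.eps X).obj U := MorphismProperty.Over.homMk ψ hψ'
  let u : P.T.toLim.obj A ⟶ P.T.toLim.obj B := P.T.toLimProjInv A hkl
  refine ⟨B, isQcqs_pullTo hA hkl, sGerm G K F bB x, ?_, ?_⟩
  · let m : toPLim B ⟶ E := MorphismProperty.Over.homMk ((P.T.toLim.map (P.T.proj A hkl)).left ≫ g.left ≫ O.ι) (by
      change ((P.T.toLim.map (P.T.proj A hkl)).left ≫ g.left ≫ O.ι) ≫ pullback.snd U.hom P.c.pt.hom ≫ P.c.pt.hom =
        pullback.snd B.str (P.T.pr B.stage) ≫ P.c.pt.hom
      have hB : (P.T.toLim.map (P.T.proj A hkl)).left ≫ pullback.snd A.str (P.T.pr A.stage) =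
          pullback.snd B.str (P.T.pr B.stage) := P.T.toLim_map_snd _
      refine (Category.assoc _ _ _).symm.trans (congrArg (· ≫ P.c.pt.hom) ?_)
      refine (Category.assoc _ _ _).trans (Eq.trans ?_ hB)
      exact congrArg ((P.T.toLim.map (P.T.proj A hkl)).left ≫ ·) ((Category.assoc _ _ _).trans hgw))
    have hm : Set.range m.left.base ⊆ zeroSet F d := by
      rintro _ ⟨z, rfl⟩
      exact ((P.T.toLim.map (P.T.proj A hkl)).left ≫ g.left).base z |>.2
    have h0 := (map_eq_zero_iff F d m).2 hm
    rw [map_sub, map_sGerm, sub_eq_zero, ← ConcreteCategory.comp_apply, ← Functor.map_comp, ← op_comp] at h0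
    have e2 : m ≫ p₂ = rhoP B := MorphismProperty.Over.Hom.ext (by
      refine (Category.assoc _ _ _).trans ?_
      refine (congrArg (_ ≫ ·) ((Category.assoc _ _ _).trans hgw)).trans ?_
      exact P.T.toLim_map_snd _)
    have e1 : m ≫ p₁ = piP B ≫ bB := MorphismProperty.Over.Hom.ext (by
      refine (Category.assoc _ _ _).trans ?_
      refine (congrArg (_ ≫ ·) ((Category.assoc _ _ _).trans hψ.symm)).trans ?_
      refine (Category.assoc _ _ _).symm.trans (congrArg (· ≫ ψ) (pullback.hom_ext ?_ ?_))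
      · refine (Category.assoc _ _ _).trans ((congrArg (_ ≫ ·) (pullback.lift_fst _ _ _)).trans ?_)
        exact P.T.toLim_map_fst _
      · refine (Category.assoc _ _ _).trans ((congrArg (_ ≫ ·) (pullback.lift_snd _ _ _)).trans ?_)
        refine (Category.assoc _ _ _).symm.trans ((congrArg (· ≫ P.T.pr _) (P.T.toLim_map_snd _)).trans ?_)
        exact pullback.condition.symm)
    rw [map_sGerm, ← e1, ← e2]
    exact h0
  · have hρ : u.left ≫ pullback.snd B.str (P.T.pr B.stage) = pullback.snd A.str (P.T.pr A.stage) :=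
      MorphismProperty.Over.w u
    refine ⟨u.left.base y', ?_⟩
    change (u.left ≫ pullback.snd B.str (P.T.pr B.stage)).base y' = y
    rw [hρ, ← hgw]
    change (O.ι ≫ pullback.snd U.hom P.c.pt.hom).base (g.left.base y') = y
    rw [hy']
    exact (congrArg (fun q : V ⟶ P.c.pt => q.left.base v) he2).trans hv

end Groth.Agent.ProSec71
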