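import Groth.Agent.ProEtLib.EpsVanish
import Mathlib.AlgebraicGeometry.Morphisms.Flat

/-!
# The vanishing locus of a section of a pulled back sheaf is open
-/

universe u

open CategoryTheory CategoryTheory.Limits AlgebraicGeometry Opposite MorphismProperty

namespace Groth.Agent.ProSec71

open SitePullUnit ProEtLib
set_option linter.unusedSectionVars false

set_option backward.isDefEq.respectTransparency.types false

variable {X : Scheme.{u}} [ProEtS.EpsCont X] (F : EtCoh.Ab X)

local notation "G" => ProEtS.eps X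
local notation "K" => Scheme.ProEt.topology X

/-- points near which a section vanishes -/
def zeroSet {W : X.ProEt} (t : (pulled G K F).obj (op W)) : Set W.left :=
  {w | ∃ (V : X.ProEt) (f : V ⟶ W) (v : V.left), f.left.base v = w ∧ (pulled G K F).map f.op t = 0}

/-- the product over an object, with a point over two given points -/
theorem exists_span {W V V' : X.ProEt} (f : V ⟶ W) (g : V' ⟶ W) (v : V.left) (v' : V'.left)
    (h : f.left.base v = g.left.base v') :
    ∃ (P : X.ProEt) (p : P ⟶ V) (q : P ⟶ V') (z : P.left), p ≫ f = q ≫ g ∧ p.left.base z = v := by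
  have := weaklyEtale_left g
  have : WeaklyEtale V.hom := V.prop
  have : WeaklyEtale (pullback.fst f.left g.left) := MorphismProperty.pullback_fst _ _ (weaklyEtale_left g)
  obtain ⟨z, hz, -⟩ := Scheme.Pullback.exists_preimage_pullback v v' h
  refine ⟨Scheme.ProEt.mk (pullback.fst f.left g.left ≫ V.hom),
    MorphismProperty.Over.homMk (pullback.fst f.left g.left),
    MorphismProperty.Over.homMk (pullback.snd f.left g.left) ?_, z,
    MorphismProperty.Over.Hom.ext pullback.condition, hz⟩
  change pullback.snd f.left g.left ≫ V'.hom = pullback.fst f.left g.left ≫ V.hom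
  rw [← MorphismProperty.Over.w g, ← MorphismProperty.Over.w f, ← Category.assoc, ← Category.assoc,
    pullback.condition]

variable [RepresentablyFlat (ProEtS.eps X)]

theorem sGerm_zero' {d : X.ProEt} {U : X.Etale} (b : d ⟶ (ProEtS.eps X).obj U) :
    sGerm G K F b 0 = 0 := by
  simp [sGerm]

/-- for a germ, the vanishing is read off on the etale site -/
theorem mem_zeroSet_iff {W : X.ProEt} (t : (pulled G K F).obj (op W)) {V : X.ProEt} (f : V ⟶ W) {U : X.Etale}
    (b : V ⟶ (ProEtS.eps X).obj U) (x : F.obj.obj (op U)) (h : sGerm G K F b x = (pulled G K F).map f.op t)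
    (v : V.left) : f.left.base v ∈ zeroSet F t ↔ b.left.base v ∈ agree F x 0 := by
  constructor
  · rintro ⟨V', g, v', hv', hg⟩
    obtain ⟨P, p, q, z, hpq, hz⟩ := exists_span f g v v' hv'.symm
    have h0 : sGerm G K F (p ≫ b) x = sGerm G K F (p ≫ b) 0 := by
      rw [← map_sGerm, h, ← map_sGerm, sGerm_zero', map_zero, ← ConcreteCategory.comp_apply, ← Functor.map_comp,
        ← op_comp, hpq, op_comp, Functor.map_comp, ConcreteCategory.comp_apply, hg, map_zero]
    have := sGerm_agree F (p ≫ b) x 0 h0 z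
    rw [← hz]
    exact this
  · intro hv
    let O : V.left.Opens := b.left ⁻¹ᵁ agree F x 0
    refine ⟨opObj V O, opHom V O ≫ f, ⟨v, hv⟩, rfl, ?_⟩
    rw [op_comp, Functor.map_comp, ConcreteCategory.comp_apply, ← h, map_sGerm,
      sGerm_eq_of_agree F (opHom V O ≫ b) x 0 (fun z => z.2), sGerm_zero']

/-- vanishing is detected pointwise -/
theorem map_eq_zero_iff {W : X.ProEt} (t : (pulled G K F).obj (op W)) {V : X.ProEt} (f : V ⟶ W) :
    (pulled G K F).map f.op t = 0 ↔ Set.range f.left.base ⊆ zeroSet F t := by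
  constructor
  · rintro h _ ⟨v, rfl⟩
    exact ⟨V, f, v, rfl, h⟩
  · intro h
    obtain ⟨R, hR, hR'⟩ := exists_cover_sGerm G K F ((pulled G K F).map f.op t)
    refine ((presheafToSheaf K AddCommGrpCat.{u + 1}).obj (lanP G F)).2.isSeparated V R hR _ 0 fun Y k hk => ?_
    rw [map_zero]
    obtain ⟨U, b, x, hx⟩ := hR' k hk
    refine hx.symm.trans ?_
    rw [← ConcreteCategory.comp_apply, ← Functor.map_comp, ← op_comp] at hx
    exact (sGerm_eq_of_agree F b x 0 fun y =>
      (mem_zeroSet_iff F t (k ≫ f) b x hx y).1 (h ⟨k.left.base y, rfl⟩)).trans (sGerm_zero' F b)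

/-- the vanishing locus is open -/
theorem isOpen_zeroSet {W : X.ProEt} (t : (pulled G K F).obj (op W)) : IsOpen (zeroSet F t) := by
  rw [isOpen_iff_forall_mem_open]
  intro w hw
  obtain ⟨A, hA, hwA, -⟩ := exists_isAffineOpen_mem_and_subset (show w ∈ (⊤ : W.left.Opens) from trivial)
  let W' := opObj W A
  let ι' := opHom W A
  have : IsAffine W'.left := hA
  obtain ⟨R, hR, hR'⟩ := exists_cover_sGerm G K F ((pulled G K F).map ι'.op t)
  obtain ⟨κ, _, P, g, hg, hc, hs, -⟩ := exists_finite_compact_cover hR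
  choose U b x hx using fun k => hR' _ (hg k)
  have := fun k => weaklyEtale_left (g k)
  let d : κ → Scheme.{u} := fun k => (P k).left
  have : ∀ k, CompactSpace (d k) := hc
  let q : ∐ d ⟶ W'.left := Sigma.desc fun k => (g k).left
  have : WeaklyEtale q := IsZariskiLocalAtSource.sigmaDesc fun k => weaklyEtale_left (g k)
  have hqs : Surjective q := ⟨fun z => by
    obtain ⟨k, y, rfl⟩ := hs z
    exact ⟨(Sigma.ι d k).base y, congrArg (fun e : d k ⟶ W'.left => e.base y) (Sigma.ι_desc _ _)⟩⟩
  have : CompactSpace (∐ d : Scheme.{u}) := (sigmaMk d).compactSpace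
  have : QuasiCompact q := (quasiCompact_iff_compactSpace q).2 inferInstance
  have ho : IsOpen (ι'.left.base ⁻¹' zeroSet F t) := by
    rw [← (Flat.isQuotientMap_of_surjective q).isOpen_preimage]
    have e : q.base ⁻¹' (ι'.left.base ⁻¹' zeroSet F t) =
        ⋃ k, (Sigma.ι d k).base '' ((b k).left.base ⁻¹' (agree F (x k) 0 : Set (U k).left)) := by
      have key : ∀ k y, ι'.left.base (q.base ((Sigma.ι d k).base y)) ∈ zeroSet F t ↔
          (b k).left.base y ∈ agree F (x k) 0 := fun k y => by
        have hy : q.base ((Sigma.ι d k).base y) = (g k).left.base y :=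
          congrArg (fun e : d k ⟶ W'.left => e.base y) (Sigma.ι_desc _ _)
        rw [hy]
        refine mem_zeroSet_iff F t (g k ≫ ι') (b k) (x k) ((hx k).trans ?_) y
        rw [op_comp, Functor.map_comp, ConcreteCategory.comp_apply]
      ext z
      obtain ⟨⟨k, y⟩, rfl⟩ := (sigmaMk d).surjective z
      rw [sigmaMk_mk]
      refine ⟨fun hz => Set.mem_iUnion.2 ⟨k, y, (key k y).1 hz, rfl⟩, fun hz => (key k y).2 ?_⟩
      obtain ⟨k', y', hy', he⟩ := Set.mem_iUnion.1 hz
      have he' : sigmaMk d ⟨k', y'⟩ = sigmaMk d ⟨k, y⟩ := by rw [sigmaMk_mk, sigmaMk_mk]; exact he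
      obtain ⟨rfl, hh⟩ := Sigma.mk.inj_iff.1 ((sigmaMk d).injective he')
      rwa [← eq_of_heq hh]
    rw [e]
    exact isOpen_iUnion fun k => (Sigma.ι d k).isOpenMap _ ((agree F (x k) 0).2.preimage (b k).left.base.hom.continuous)
  refine ⟨A.ι.base '' (ι'.left.base ⁻¹' zeroSet F t), Set.image_preimage_subset _ _, A.ι.isOpenMap _ ho, ?_⟩
  exact ⟨⟨w, hwA⟩, hw, rfl⟩

end Groth.Agent.ProSec71
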